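import Mathlib

/-!
# Groups with the rank one relations of a small Ree group, for an arbitrary twisting map

`Pre K Γ` has the unipotent elements, the torus and the involution `n` of a group of Ree type in
coordinates; the twisting endomorphism `φ` is not assumed to be a square root of Frobenius.
-/

set_option autoImplicit false

namespace Cfsg.Agent.TBU

open MulAction

/-- The field data: twisting map `φ` and the torus map `ρ` of the centraliser of the involution. -/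
structure Dat (K : Type*) [Field K] where
  /-- the twisting endomorphism -/
  φ : K →+* K
  three : (3 : K) = 0
  /-- the torus part in the centraliser of the involution -/
  ρ : Kˣ →* Kˣ
  ρ_norm : ∀ s : Kˣ, (ρ s : K) * φ (ρ s) = s ^ 2
  ρ_neg : ρ (-1) = 1
  sq_eq_one_of_mul_φ : ∀ {c : K}, c * φ c = 1 → c ^ 2 = 1
  eq_one_of_sq_mul_φ : ∀ {c : K}, c ^ 2 * φ c = 1 → c = 1
  nonsq : ∀ c : K, c ^ 2 ≠ -1
  sq_or : ∀ c : Kˣ, ∃ d : Kˣ, c = d ^ 2 ∨ c = -d ^ 2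

/-- The relations of a group of Ree type. -/
structure Pre {K : Type*} [Field K] (D : Dat K) (Γ : Type*) [Group Γ] where
  /-- unipotent elements -/
  x : K → K → K → Γ
  /-- the torus -/
  h : Kˣ →* Γ
  /-- the Weyl element -/
  n : Γ
  x_mul : ∀ t u v t' u' v', x t u v * x t' u' v' =
    x (t + t') (u + u' - t * D.φ t') (v + v' - t' * u + t * t' * D.φ t' - t ^ 2 * D.φ t')
  h_x : ∀ (c : Kˣ) t u v,
    h c * x t u v = x (c * t) (c * D.φ c * u) (c ^ 2 * D.φ c * v) * h c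
  n_n : n * n = 1
  n_h : ∀ c, n * h c = h c⁻¹ * n
  x_eq_h : ∀ t u v c, x t u v = h c → t = 0 ∧ u = 0 ∧ v = 0 ∧ c = 1
  bruhat : ∀ g, (∃ t u v c, g = x t u v * h c) ∨
    ∃ t u v c t' u' v', g = x t u v * h c * n * x t' u' v'
  n_x_n : ∀ t u v t' u' v' c, n * x t u v * n = x t' u' v' * h c → t = 0 ∧ u = 0 ∧ v = 0
  n_ne : ∀ t u v c, n ≠ x t u v * h c
  relY : ∀ s : Kˣ, n * x 0 s 0 * n = x 0 (-(s : K)⁻¹) 0 * h (D.ρ s)⁻¹ * n * x 0 (-(s : K)⁻¹) 0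
  /-- the free constant in the second relation -/
  δ : K
  rel₁ : n * x 0 1 1 * n = x 0 1 1 * h (-1) * n * x 1 1 (-1 + δ)

namespace Pre

variable {K : Type*} [Field K] {D : Dat K} {Γ : Type*} [Group Γ] (R : Pre D Γ)

theorem x_zero : R.x 0 0 0 = 1 := by
  have := R.x_mul 0 0 0 0 0 0
  simpa using this

theorem x_congr {t u v t' u' v' : K} (h1 : t = t') (h2 : u = u') (h3 : v = v') :
    R.x t u v = R.x t' u' v' := by rw [h1, h2, h3]

theorem x_inv (t u v : K) :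
    (R.x t u v)⁻¹ = R.x (-t) (-u - t * D.φ t) (-v - t * u + t ^ 2 * D.φ t) := by
  rw [inv_eq_iff_mul_eq_one, x_mul, ← x_zero R, map_neg]
  refine R.x_congr (by ring) (by ring) ?_
  linear_combination (t ^ 2 * D.φ t) * D.three

theorem x_eq_one_iff {t u v : K} : R.x t u v = 1 ↔ t = 0 ∧ u = 0 ∧ v = 0 := by
  constructor
  · intro h
    obtain ⟨h1, h2, h3, -⟩ := R.x_eq_h t u v 1 (by rw [h, map_one])
    exact ⟨h1, h2, h3⟩
  · rintro ⟨rfl, rfl, rfl⟩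
    exact R.x_zero

theorem x_inj {t u v t' u' v' : K} (h : R.x t u v = R.x t' u' v') :
    t = t' ∧ u = u' ∧ v = v' := by
  have h1 : (R.x t u v)⁻¹ * R.x t' u' v' = 1 := by rw [h, inv_mul_cancel]
  rw [x_inv, x_mul, x_eq_one_iff] at h1
  obtain ⟨a, b, c⟩ := h1
  have ht : t' = t := by linear_combination a
  subst ht
  have hu : u' = u := by linear_combination b
  subst hu
  exact ⟨rfl, rfl, by linear_combination -c⟩

theorem h_injective : Function.Injective R.h := by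
  rw [injective_iff_map_eq_one]
  intro c hc
  exact (R.x_eq_h 0 0 0 c (by rw [hc, x_zero])).2.2.2

theorem n_inv : R.n⁻¹ = R.n := inv_eq_of_mul_eq_one_right R.n_n

theorem n_n_mul (g : Γ) : R.n * (R.n * g) = g := by rw [← mul_assoc, n_n, one_mul]

theorem h_n (c : Kˣ) : R.h c * R.n = R.n * R.h c⁻¹ := by rw [n_h, inv_inv]

theorem h_comm (c d : Kˣ) : R.h c * R.h d = R.h d * R.h c := by
  rw [← map_mul, mul_comm, map_mul]

theorem h_x_h (c : Kˣ) (t u v : K) :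
    R.h c * R.x t u v * (R.h c)⁻¹ = R.x (c * t) (c * D.φ c * u) (c ^ 2 * D.φ c * v) := by
  rw [h_x, mul_inv_cancel_right]

theorem φ_ne_zero {a : K} (ha : a ≠ 0) : D.φ a ≠ 0 := (map_ne_zero D.φ).2 ha

/-- The unipotent subgroup. -/
def U : Subgroup Γ where
  carrier := {g | ∃ t u v, g = R.x t u v}
  one_mem' := ⟨0, 0, 0, R.x_zero.symm⟩
  mul_mem' := by
    rintro _ _ ⟨t, u, v, rfl⟩ ⟨t', u', v', rfl⟩
    exact ⟨_, _, _, R.x_mul ..⟩
  inv_mem' := by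
    rintro _ ⟨t, u, v, rfl⟩
    exact ⟨_, _, _, R.x_inv ..⟩

/-- The diagonal subgroup. -/
def H : Subgroup Γ := R.h.range

/-- The Borel subgroup. -/
def B : Subgroup Γ where
  carrier := {g | ∃ t u v c, g = R.x t u v * R.h c}
  one_mem' := ⟨0, 0, 0, 1, by rw [R.x_zero, map_one, one_mul]⟩
  mul_mem' := by
    rintro _ _ ⟨t, u, v, c, rfl⟩ ⟨t', u', v', c', rfl⟩
    rw [mul_assoc, ← mul_assoc (R.h c), h_x, mul_assoc, ← map_mul, ← mul_assoc, x_mul]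
    exact ⟨_, _, _, _, rfl⟩
  inv_mem' := by
    rintro _ ⟨t, u, v, c, rfl⟩
    rw [mul_inv_rev, x_inv, ← map_inv, h_x]
    exact ⟨_, _, _, _, rfl⟩

theorem mem_U {g : Γ} : g ∈ R.U ↔ ∃ t u v, g = R.x t u v := Iff.rfl

theorem mem_H {g : Γ} : g ∈ R.H ↔ ∃ c, R.h c = g := Iff.rfl

theorem mem_B {g : Γ} : g ∈ R.B ↔ ∃ t u v c, g = R.x t u v * R.h c := Iff.rfl

theorem x_mem_U (t u v : K) : R.x t u v ∈ R.U := ⟨t, u, v, rfl⟩

theorem h_mem_H (c : Kˣ) : R.h c ∈ R.H := ⟨c, rfl⟩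

theorem U_le_B : R.U ≤ R.B := by
  rintro _ ⟨t, u, v, rfl⟩
  exact ⟨t, u, v, 1, by rw [map_one, mul_one]⟩

theorem H_le_B : R.H ≤ R.B := by
  rintro _ ⟨c, rfl⟩
  exact ⟨0, 0, 0, c, by rw [x_zero, one_mul]⟩

theorem x_mem_B (t u v : K) : R.x t u v ∈ R.B := R.U_le_B (R.x_mem_U t u v)

theorem h_mem_B (c : Kˣ) : R.h c ∈ R.B := R.H_le_B (R.h_mem_H c)

theorem n_not_mem_B : R.n ∉ R.B := fun ⟨t, u, v, c, h⟩ => R.n_ne t u v c h

theorem mem_B_iff {g : Γ} : g ∈ R.B ↔ ∃ y ∈ R.U, ∃ c, g = y * R.h c :=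
  ⟨fun ⟨t, u, v, c, h⟩ => ⟨_, R.x_mem_U t u v, c, h⟩,
    fun ⟨_, ⟨t, u, v, h⟩, c, h'⟩ => ⟨t, u, v, c, h ▸ h'⟩⟩

theorem xh_inj {t u v t' u' v' : K} {c c' : Kˣ} (h : R.x t u v * R.h c = R.x t' u' v' * R.h c') :
    t = t' ∧ u = u' ∧ v = v' ∧ c = c' := by
  have h1 : (R.x t' u' v')⁻¹ * R.x t u v = R.h (c' * c⁻¹) := by
    rw [map_mul, map_inv, inv_mul_eq_iff_eq_mul, ← mul_assoc, ← h, mul_inv_cancel_right]
  obtain ⟨a, b, d, hx⟩ := R.U.mul_mem (R.U.inv_mem (R.x_mem_U t' u' v')) (R.x_mem_U t u v)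
  have hc : c' * c⁻¹ = 1 := (R.x_eq_h a b d _ (hx.symm.trans h1)).2.2.2
  have hc' : c = c' := (mul_inv_eq_one.1 hc).symm
  subst hc'
  obtain ⟨h1, h2, h3⟩ := R.x_inj (mul_right_cancel h)
  exact ⟨h1, h2, h3, rfl⟩

theorem eq_one_of_mem_U_of_mem_H {g : Γ} (h1 : g ∈ R.U) (h2 : g ∈ R.H) : g = 1 := by
  obtain ⟨t, u, v, rfl⟩ := h1
  obtain ⟨c, hc⟩ := h2
  obtain ⟨rfl, rfl, rfl, -⟩ := R.x_eq_h t u v c hc.symm
  exact R.x_zero

theorem eq_one_of_n_conj_mem_B {y : Γ} (hy : y ∈ R.U) (h : R.n * y * R.n ∈ R.B) : y = 1 := by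
  obtain ⟨t, u, v, rfl⟩ := hy
  obtain ⟨t', u', v', c, h⟩ := h
  exact R.x_eq_one_iff.2 (R.n_x_n _ _ _ _ _ _ _ h)

theorem n_conj_mem_H {g : Γ} (hg : g ∈ R.H) : R.n * g * R.n ∈ R.H := by
  obtain ⟨c, rfl⟩ := hg
  rw [n_h, mul_assoc, n_n, mul_one]
  exact R.h_mem_H _

theorem mem_H_of_n_conj_mem_B {g : Γ} (hg : g ∈ R.B) (h : R.n * g * R.n ∈ R.B) : g ∈ R.H := by
  obtain ⟨y, hy, c, rfl⟩ := R.mem_B_iff.1 hg
  have h1 : R.n * y * R.n = R.n * (y * R.h c) * R.n * (R.n * (R.h c)⁻¹ * R.n) := by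
    simp only [mul_assoc, n_n_mul, mul_inv_cancel_left]
  have h2 : R.n * y * R.n ∈ R.B := by
    rw [h1]
    exact mul_mem h (R.H_le_B (R.n_conj_mem_H (inv_mem (R.h_mem_H c))))
  rw [R.eq_one_of_n_conj_mem_B hy h2, one_mul]
  exact R.h_mem_H c

/-- Bruhat decomposition, in the form `g ∈ B` or `g ∈ U n B`. -/
theorem mem_B_or (g : Γ) : g ∈ R.B ∨ ∃ y ∈ R.U, ∃ b ∈ R.B, g = y * R.n * b := by
  rcases R.bruhat g with h | ⟨t, u, v, c, t', u', v', rfl⟩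
  · exact Or.inl h
  · refine Or.inr ⟨_, R.x_mem_U t u v, R.h c⁻¹ * R.x t' u' v',
      mul_mem (R.h_mem_B _) (R.x_mem_B ..), ?_⟩
    rw [mul_assoc (R.x t u v), h_n]
    simp only [mul_assoc]

theorem not_mem_B_of_eq {y b : Γ} (hy : y ∈ R.B) (hb : b ∈ R.B) : y * R.n * b ∉ R.B := fun h =>
  R.n_not_mem_B (by simpa [mul_assoc] using mul_mem (mul_mem (inv_mem hy) h) (inv_mem hb))

section Field

include R in
theorem charP : CharP K 3 :=
  (CharP.charP_iff_prime_eq_zero Nat.prime_three).2 (by exact_mod_cast D.three)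

include R in
theorem two_ne_zero' : (2 : K) ≠ 0 := fun h =>
  one_ne_zero (α := K) (by linear_combination D.three - h)

include R in
theorem neg_one_ne_one : (-1 : Kˣ) ≠ 1 := fun h =>
  R.two_ne_zero' (by
    have := congrArg Units.val h
    simp only [Units.val_neg, Units.val_one] at this
    linear_combination -this)

theorem φ_neg_one : D.φ (-1) = -1 := by simp

theorem eq_one_or_neg_one_of_sq {c : Kˣ} (h : (c : K) ^ 2 = 1) : c = 1 ∨ c = -1 := by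
  rcases sq_eq_one_iff.1 h with h | h
  · exact Or.inl (Units.ext h)
  · exact Or.inr (Units.ext h)

end Field

/-- The point at infinity. -/
def inf : Γ ⧸ R.B := ((1 : Γ) : Γ ⧸ R.B)

/-- The finite points. -/
def pt (t u v : K) : Γ ⧸ R.B := ((R.x t u v * R.n : Γ) : Γ ⧸ R.B)

theorem smul_inf (g : Γ) : g • R.inf = (g : Γ ⧸ R.B) := by
  change ((g * 1 : Γ) : Γ ⧸ R.B) = _
  rw [mul_one]

theorem smul_inf_eq_iff {g : Γ} : g • R.inf = R.inf ↔ g ∈ R.B := by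
  rw [smul_inf, inf, eq_comm, QuotientGroup.eq, inv_one, one_mul]

theorem pt_eq_smul (t u v : K) : R.pt t u v = (R.x t u v * R.n) • R.inf := (R.smul_inf _).symm

theorem pt_zero : R.pt 0 0 0 = R.n • R.inf := by rw [pt_eq_smul, x_zero, one_mul]

theorem n_smul_inf : R.n • R.inf = R.pt 0 0 0 := R.pt_zero.symm

theorem n_smul_pt_zero : R.n • R.pt 0 0 0 = R.inf := by
  rw [pt_zero, smul_smul, n_n, one_smul]

theorem x_smul_pt_zero (t u v : K) : R.x t u v • R.pt 0 0 0 = R.pt t u v := by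
  rw [pt_zero, smul_smul, pt_eq_smul]

theorem smul_inf_of_mem {b : Γ} (hb : b ∈ R.B) : b • R.inf = R.inf := R.smul_inf_eq_iff.2 hb

theorem h_smul_pt_zero (c : Kˣ) : R.h c • R.pt 0 0 0 = R.pt 0 0 0 := by
  rw [pt_zero, smul_smul, h_n, mul_smul, R.smul_inf_of_mem (R.h_mem_B _)]

theorem h_smul_pt (c : Kˣ) (t u v : K) :
    R.h c • R.pt t u v = R.pt (c * t) (c * D.φ c * u) (c ^ 2 * D.φ c * v) := by
  rw [← x_smul_pt_zero, smul_smul, h_x, mul_smul, h_smul_pt_zero, x_smul_pt_zero]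

theorem x_smul_pt (t u v t' u' v' : K) : R.x t u v • R.pt t' u' v' =
    R.pt (t + t') (u + u' - t * D.φ t') (v + v' - t' * u + t * t' * D.φ t' - t ^ 2 * D.φ t') := by
  rw [← x_smul_pt_zero, smul_smul, x_mul, x_smul_pt_zero]

theorem pt_ne_inf (t u v : K) : R.pt t u v ≠ R.inf := by
  rw [pt_eq_smul, Ne, smul_inf_eq_iff]
  simpa using R.not_mem_B_of_eq (R.x_mem_B t u v) (one_mem _)

theorem eq_inf_or (ω : Γ ⧸ R.B) : ω = R.inf ∨ ∃ t u v, ω = R.pt t u v := by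
  obtain ⟨g, rfl⟩ := QuotientGroup.mk_surjective ω
  rw [← smul_inf]
  rcases R.mem_B_or g with h | ⟨_, ⟨t, u, v, rfl⟩, b, hb, rfl⟩
  · exact Or.inl (R.smul_inf_of_mem h)
  · exact Or.inr ⟨t, u, v, by rw [mul_smul, R.smul_inf_of_mem hb, pt_eq_smul]⟩

theorem eq_one_of_smul_pt_zero {y : Γ} (hy : y ∈ R.U) (h : y • R.pt 0 0 0 = R.pt 0 0 0) :
    y = 1 := by
  refine R.eq_one_of_n_conj_mem_B hy (R.smul_inf_eq_iff.1 ?_)
  rw [mul_smul, mul_smul, n_smul_inf, h, n_smul_pt_zero]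

theorem pt_inj {t u v t' u' v' : K} (h : R.pt t u v = R.pt t' u' v') :
    t = t' ∧ u = u' ∧ v = v' := by
  rw [← x_smul_pt_zero, ← R.x_smul_pt_zero t', ← inv_smul_eq_iff, smul_smul] at h
  have := R.eq_one_of_smul_pt_zero (mul_mem (inv_mem (R.x_mem_U ..)) (R.x_mem_U ..)) h
  exact R.x_inj (inv_mul_eq_one.1 this).symm

/-- `U` acts freely on the finite points. -/
theorem eq_one_of_smul_eq {y : Γ} (hy : y ∈ R.U) {ω : Γ ⧸ R.B} (hω : ω ≠ R.inf) (h : y • ω = ω) :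
    y = 1 := by
  rcases R.eq_inf_or ω with rfl | ⟨t, u, v, rfl⟩
  · exact absurd rfl hω
  · rw [← x_smul_pt_zero, smul_smul, ← inv_smul_eq_iff, smul_smul] at h
    have := R.eq_one_of_smul_pt_zero
      (mul_mem (inv_mem (R.x_mem_U ..)) (mul_mem hy (R.x_mem_U ..))) h
    rwa [inv_mul_eq_one, right_eq_mul] at this

theorem mem_H_iff_smul {g : Γ} :
    g ∈ R.H ↔ g • R.inf = R.inf ∧ g • R.pt 0 0 0 = R.pt 0 0 0 := by
  constructor
  · rintro ⟨c, rfl⟩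
    exact ⟨R.smul_inf_of_mem (R.h_mem_B c), R.h_smul_pt_zero c⟩
  · rintro ⟨h1, h2⟩
    refine R.mem_H_of_n_conj_mem_B (R.smul_inf_eq_iff.1 h1) (R.smul_inf_eq_iff.1 ?_)
    rw [mul_smul, mul_smul, n_smul_inf, h2, n_smul_pt_zero]

theorem exists_smul_inf (ω : Γ ⧸ R.B) : ∃ g : Γ, g • R.inf = ω := by
  obtain ⟨g, rfl⟩ := QuotientGroup.mk_surjective ω
  exact ⟨g, R.smul_inf g⟩

theorem exists_U_smul {ω : Γ ⧸ R.B} (hω : ω ≠ R.inf) : ∃ y ∈ R.U, y • R.pt 0 0 0 = ω := by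
  rcases R.eq_inf_or ω with rfl | ⟨t, u, v, rfl⟩
  · exact absurd rfl hω
  · exact ⟨_, R.x_mem_U t u v, R.x_smul_pt_zero ..⟩

/-- Double transitivity. -/
theorem two_trans {ω ω' : Γ ⧸ R.B} (h : ω ≠ ω') :
    ∃ g : Γ, g • R.inf = ω ∧ g • R.pt 0 0 0 = ω' := by
  obtain ⟨g, rfl⟩ := R.exists_smul_inf ω
  have : g⁻¹ • ω' ≠ R.inf := fun h' => h (by rw [← h', smul_inv_smul])
  obtain ⟨y, hy, hy'⟩ := R.exists_U_smul this
  refine ⟨g * y, ?_, ?_⟩
  · rw [mul_smul, R.smul_inf_of_mem (R.U_le_B hy)]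
  · rw [mul_smul, hy', smul_inv_smul]

/-- An element interchanging `∞` and `0` lies in `H n`. -/
theorem exists_eq_h_n {g : Γ} (h1 : g • R.inf = R.pt 0 0 0) (h2 : g • R.pt 0 0 0 = R.inf) :
    ∃ c, g = R.h c * R.n := by
  obtain ⟨c, hc⟩ : g * R.n ∈ R.H := R.mem_H_iff_smul.2
    ⟨by rw [mul_smul, n_smul_inf, h2], by rw [mul_smul, n_smul_pt_zero, h1]⟩
  exact ⟨c, by rw [hc, mul_assoc, n_n, mul_one]⟩

/-- The fixed points of `h c` for `c ≠ ± 1`. -/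
theorem fixed_h {c : Kˣ} (h1 : c ≠ 1) (h2 : c ≠ -1) {ω : Γ ⧸ R.B} (h : R.h c • ω = ω) :
    ω = R.inf ∨ ω = R.pt 0 0 0 := by
  rcases R.eq_inf_or ω with rfl | ⟨t, u, v, rfl⟩
  · exact Or.inl rfl
  right
  rw [h_smul_pt] at h
  obtain ⟨a, b, d⟩ := R.pt_inj h
  have hc : (c : K) ≠ 1 := fun h => h1 (Units.ext h)
  have hc2 : (c : K) * D.φ c ≠ 1 := fun h => by
    rcases eq_one_or_neg_one_of_sq (D.sq_eq_one_of_mul_φ h) with h | h
    exacts [h1 h, h2 h]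
  have hc3 : (c : K) ^ 2 * D.φ c ≠ 1 := fun h => hc (D.eq_one_of_sq_mul_φ h)
  have ht : t = 0 := by
    by_contra h0
    exact hc (mul_right_cancel₀ h0 (a.trans (one_mul _).symm))
  have hu : u = 0 := by
    by_contra h0
    exact hc2 (mul_right_cancel₀ h0 (b.trans (one_mul _).symm))
  have hv : v = 0 := by
    by_contra h0
    exact hc3 (mul_right_cancel₀ h0 (d.trans (one_mul _).symm))
  rw [ht, hu, hv]

theorem h_neg_one_smul_pt (t u v : K) : R.h (-1) • R.pt t u v = R.pt (-t) u (-v) := by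
  rw [h_smul_pt]
  simp

theorem h_neg_one_x (t u v : K) : R.h (-1) * R.x t u v = R.x (-t) u (-v) * R.h (-1) := by
  rw [h_x]
  simp

/-- The fixed points of the involution `h (-1)`. -/
theorem fixed_h_neg_one {ω : Γ ⧸ R.B} : R.h (-1) • ω = ω ↔ ω = R.inf ∨ ∃ u, ω = R.pt 0 u 0 := by
  constructor
  · intro h
    rcases R.eq_inf_or ω with rfl | ⟨t, u, v, rfl⟩
    · exact Or.inl rfl
    rw [h_neg_one_smul_pt] at h
    obtain ⟨a, -, d⟩ := R.pt_inj h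
    have ht : t = 0 := mul_left_cancel₀ R.two_ne_zero' (by linear_combination -a)
    have hv : v = 0 := mul_left_cancel₀ R.two_ne_zero' (by linear_combination -d)
    exact Or.inr ⟨u, by rw [ht, hv]⟩
  · rintro (rfl | ⟨u, rfl⟩)
    · exact R.smul_inf_of_mem (R.h_mem_B _)
    · rw [h_neg_one_smul_pt, neg_zero]

/-- The action on the cosets of `B` is faithful. -/
theorem eq_one_of_forall_smul {g : Γ} (h : ∀ ω : Γ ⧸ R.B, g • ω = ω) : g = 1 := by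
  obtain ⟨c, rfl⟩ := R.mem_H_iff_smul.2 ⟨h _, h _⟩
  have := h (R.pt 1 0 0)
  rw [h_smul_pt] at this
  have hc : c = 1 := Units.ext (by simpa using (R.pt_inj this).1)
  rw [hc, map_one]

/-- A non-trivial element of `U` fixes only `∞`. -/
theorem eq_inf_of_smul_eq {y : Γ} (hy : y ∈ R.U) (h1 : y ≠ 1) {ω : Γ ⧸ R.B} (h : y • ω = ω) :
    ω = R.inf := by
  by_contra hω
  exact h1 (R.eq_one_of_smul_eq hy hω h)

/-- Trivial intersection property of `U`. -/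
theorem mem_B_of_conj_mem_B {y g : Γ} (hy : y ∈ R.U) (h1 : y ≠ 1) (h : g * y * g⁻¹ ∈ R.B) :
    g ∈ R.B := by
  rw [← smul_inf_eq_iff, mul_smul, mul_smul, smul_eq_iff_eq_inv_smul] at h
  have := R.eq_inf_of_smul_eq hy h1 h
  rw [inv_smul_eq_iff] at this
  exact R.smul_inf_eq_iff.1 this.symm

theorem mem_B_of_commute {y g : Γ} (hy : y ∈ R.U) (h1 : y ≠ 1) (h : g * y = y * g) : g ∈ R.B :=
  R.mem_B_of_conj_mem_B hy h1 (by rw [h, mul_inv_cancel_right]; exact R.U_le_B hy)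

theorem h_n_mul_self (c : Kˣ) : R.h c * R.n * (R.h c * R.n) = 1 := by
  rw [mul_assoc, ← mul_assoc R.n, n_h, mul_assoc, n_n, mul_one, ← map_mul, mul_inv_cancel, map_one]

theorem h_conj_h_n (c d : Kˣ) : R.h d * (R.h c * R.n) * (R.h d)⁻¹ = R.h (c * d ^ 2) * R.n := by
  rw [← map_inv, mul_assoc, mul_assoc, n_h, inv_inv, ← mul_assoc, ← mul_assoc, ← map_mul,
    ← map_mul]
  congr 2
  rw [sq, mul_comm d c, mul_assoc]

end Pre

end Cfsg.Agent.TBU
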